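import Cfsg.Agent.Lib.Helper44.FW.Defs

/-!
# FW package [ISO] (S3211): an involution commuting with none of its other conjugates is
isolated in every Sylow 2-subgroup containing it
-/

set_option autoImplicit false

namespace Cfsg.Agent.Lib.Helper89.FW

open Cfsg Cfsg.Agent.Lib.Helper44.FW

universe u

/-- [ISO] -/
theorem pkgIso : PkgIso.{u} := by
  intro G _ _ j hj H P hjP g hgP
  have hj2 : j * j = 1 := by
    have h0 := pow_orderOf_eq_one j
    rw [hj, pow_two] at h0
    exact h0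
  have hjinv : j⁻¹ = j := inv_eq_of_mul_eq_one_right hj2
  have Hg := H g
  obtain ⟨t, ht⟩ : ∃ t, t = g * j * g⁻¹ := ⟨_, rfl⟩
  rw [← ht] at hgP Hg ⊢
  have ht2 : t * t = 1 := by
    rw [ht]
    calc g * j * g⁻¹ * (g * j * g⁻¹) = g * (j * j) * g⁻¹ := by group
      _ = 1 := by rw [hj2]; group
  have htinv : t⁻¹ = t := inv_eq_of_mul_eq_one_right ht2
  have hdP : j * t ∈ (P : Subgroup G) := (P : Subgroup G).mul_mem hjP hgP
  have hex : ∃ k : ℕ, (j * t) ^ 2 ^ k = 1 := by
    obtain ⟨k, hk⟩ := P.isPGroup' ⟨j * t, hdP⟩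
    refine ⟨k, ?_⟩
    have h6 := congrArg Subtype.val hk
    simpa using h6
  -- `j` inverts `d = j * t`
  have hinv1 : j * (j * t) * j⁻¹ = (j * t)⁻¹ := by
    calc j * (j * t) * j⁻¹ = (j * j) * t * j⁻¹ := by group
      _ = t * j := by rw [hj2, one_mul, hjinv]
      _ = (j * t)⁻¹ := by rw [mul_inv_rev, hjinv, htinv]
  have hinv : ∀ m : ℕ, j * (j * t) ^ m * j⁻¹ = ((j * t) ^ m)⁻¹ := by
    intro m
    rw [← conj_pow, hinv1, inv_pow]
  classical
  have hk := Nat.find_spec hex
  have hmin : ∀ m : ℕ, m < Nat.find hex → (j * t) ^ 2 ^ m ≠ 1 := fun m hm => Nat.find_min hex hm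
  generalize Nat.find hex = k at hk hmin
  match k, hk, hmin with
  | 0, hk, _ =>
    rw [pow_zero, pow_one] at hk
    rw [eq_inv_of_mul_eq_one_right hk, hjinv]
  | 1, hk, _ =>
    rw [pow_one, pow_two] at hk
    have h1 : (j * t)⁻¹ = j * t := inv_eq_of_mul_eq_one_right hk
    rw [h1] at hinv1
    apply Hg
    calc t * j = (j * j) * t * j := by rw [hj2, one_mul]
      _ = j * (j * t) * j⁻¹ := by rw [hjinv]; group
      _ = j * t := hinv1
  | k' + 2, hk, hmin =>
    exfalso
    obtain ⟨w, hw⟩ : ∃ w, w = (j * t) ^ 2 ^ k' := ⟨_, rfl⟩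
    have hc : (j * t) ^ 2 ^ (k' + 1) = w * w := by rw [hw, pow_succ, pow_mul, pow_two]
    have hcc : (w * w) * (w * w) = 1 := by
      rw [← hc, ← pow_two, ← pow_mul, ← pow_succ]
      exact hk
    have hc1 : w * w ≠ 1 := by
      rw [← hc]
      exact hmin (k' + 1) (by omega)
    have hwinv : j * w * j⁻¹ = w⁻¹ := by rw [hw]; exact hinv _
    have hcinv : j * (w * w) * j⁻¹ = w * w := by
      rw [← hc, hinv, hc]
      exact inv_eq_of_mul_eq_one_right hcc
    have hjc : j * (w * w) = (w * w) * j := mul_inv_eq_iff_eq_mul.mp hcinv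
    have hconj : w * j * w⁻¹ = w * w * j := by
      calc w * j * w⁻¹ = w * j * (j * w * j⁻¹) := by rw [hwinv]
        _ = w * (j * j) * w * j⁻¹ := by group
        _ = w * w * j := by rw [hj2, mul_one, hjinv]
    have h7 : w * j * w⁻¹ = j := by
      apply H w
      rw [hconj]
      calc w * w * j * j = j * (w * w) * j := by rw [hjc]
        _ = j * (w * w * j) := by group
    rw [hconj] at h7
    exact hc1 (mul_right_cancel (h7.trans (one_mul j).symm))

end Cfsg.Agent.Lib.Helper89.FW
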